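import Mathlib

/-!
# Rank one data with arbitrary root groups and representations in characteristic `p` (helper421)

`R1 H D X Y n`: `X`, `Y` opposite root groups, `n` an involution interchanging them, `D ≤ H` the torus of the rank one
group, `x n ∈ Y D X` for `1 ≠ x ∈ X`.  `Tn ρ X n = ∑ x : X, ρ (x n)`.

For a vector `w` fixed by `X` which is an eigenvector of `H`:

* `R1.n_mem`, `R1.xy_mem` : if `Tn w = μ w` then `n w` and `x y w` lie in the span of `Y w`;
* `R1.Tn_sq` : `Tn (Tn w) = s Tn w`;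
* `R1.mu_zero`, `R1.mu_one` : the possible values of `μ`;
* `R1.mu_f` : `μ` from a `Y`-invariant functional.
* `span_neg` : the span of `G w` is the span of `Q w`, `Q` the opposite unipotent group;
* `exists_simul` : a common eigenvector for two rank one groups from a braid relation.
-/

set_option autoImplicit false
set_option linter.unusedSectionVars false

namespace Cfsg.Agent.H421.TW

open Finset

section rank1

variable {G k V : Type*} [Group G] [Finite G] [Field k] [AddCommGroup V] [Module k V]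

/-- rank one data -/
structure R1 (H D X Y : Subgroup G) (n : G) : Prop where
  XY : ∀ x ∈ X, n * x * n ∈ Y
  YX : ∀ y ∈ Y, n * y * n ∈ X
  sq : n * n = 1
  DH : D ≤ H
  HX : ∀ t ∈ H, ∀ x ∈ X, t * x * t⁻¹ ∈ X
  nH : ∀ t ∈ H, n * t * n ∈ H
  nD : ∀ t ∈ D, n * t * n = t⁻¹
  rk : ∀ x ∈ X, x ≠ 1 → ∃ y ∈ Y, ∃ t ∈ D, ∃ x' ∈ X, x * n = y * t * x'

/-- `∑ x : X, ρ (x n)` -/
noncomputable def Tn (ρ : G →* Module.End k V) (X : Subgroup G) (n : G) : Module.End k V :=
  let _ := Fintype.ofFinite X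
  ∑ x : X, ρ ((x : G) * n)

theorem Tn_apply (ρ : G →* Module.End k V) (X : Subgroup G) [i : Fintype X] (n : G) (v : V) :
    Tn ρ X n v = ∑ x : X, ρ ((x : G) * n) v := by
  have : i = Fintype.ofFinite X := Subsingleton.elim _ _
  subst this
  rw [Tn, LinearMap.sum_apply]

omit [Finite G] in
theorem mul_ap (ρ : G →* Module.End k V) (g h : G) (v : V) : ρ (g * h) v = ρ g (ρ h v) := by rw [map_mul]; rfl

omit [Finite G] in
theorem one_ap (ρ : G →* Module.End k V) (v : V) : ρ 1 v = v := by rw [map_one]; rfl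

/-- translation inside the sum -/
theorem Tn_mul (ρ : G →* Module.End k V) (X : Subgroup G) (n : G) {z : G} (hz : z ∈ X) (v : V) :
    Tn ρ X n (ρ (n⁻¹ * z * n) v) = Tn ρ X n v := by
  let _ := Fintype.ofFinite X
  rw [Tn_apply, Tn_apply]
  refine Fintype.sum_equiv (Equiv.mulRight (⟨z, hz⟩ : X)) _ _ fun x => ?_
  rw [← mul_ap]
  congr 2
  show (x : G) * n * (n⁻¹ * z * n) = (x : G) * z * n
  group

/-- translation on the left -/
theorem mul_Tn (ρ : G →* Module.End k V) (X : Subgroup G) (n : G) {z : G} (hz : z ∈ X) (v : V) :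
    ρ z (Tn ρ X n v) = Tn ρ X n v := by
  let _ := Fintype.ofFinite X
  rw [Tn_apply, map_sum]
  refine Fintype.sum_equiv (Equiv.mulLeft (⟨z, hz⟩ : X)) _ _ fun x => ?_
  rw [← mul_ap]
  congr 2
  show z * ((x : G) * n) = z * (x : G) * n
  group

/-- elements normalising `X` -/
theorem norm_Tn (ρ : G →* Module.End k V) (X : Subgroup G) (n : G) {z : G} (hz : ∀ x ∈ X, z * x * z⁻¹ ∈ X)
    (v : V) : ρ z (Tn ρ X n v) = Tn ρ X n (ρ (n⁻¹ * z * n) v) := by
  let _ := Fintype.ofFinite X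
  rw [Tn_apply, Tn_apply, map_sum]
  have hinj : Function.Injective (fun x : X => (⟨z * x * z⁻¹, hz x x.2⟩ : X)) := by
    intro a b h
    have h1 : z * (a : G) * z⁻¹ = z * (b : G) * z⁻¹ := congrArg Subtype.val h
    exact Subtype.ext (mul_left_cancel (mul_right_cancel h1))
  refine Fintype.sum_bijective (fun x : X => (⟨z * x * z⁻¹, hz x x.2⟩ : X))
    (Finite.injective_iff_bijective.1 hinj) _ _ fun x => ?_
  rw [← mul_ap, ← mul_ap]
  congr 2
  show z * ((x : G) * n) = z * (x : G) * z⁻¹ * n * (n⁻¹ * z * n)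
  group

namespace R1

variable {H D X Y : Subgroup G} {n : G} (r : R1 H D X Y n) {ρ : G →* Module.End k V} {w : V}
include r

theorem n_inv : n⁻¹ = n := inv_eq_of_mul_eq_one_left r.sq

/-- terms of the sum -/
theorem term (hX : ∀ x ∈ X, ρ x w = w) (hH : ∀ t ∈ H, ∃ c : k, ρ t w = c • w) {x : G} (hx : x ∈ X) (hx1 : x ≠ 1) :
    ∃ y ∈ Y, ∃ t ∈ D, ∃ c : k, ρ t w = c • w ∧ ρ (x * n) w = c • ρ y w := by
  obtain ⟨y, hy, t, ht, x', hx', e⟩ := r.rk x hx hx1
  obtain ⟨c, hc⟩ := hH t (r.DH ht)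
  refine ⟨y, hy, t, ht, c, hc, ?_⟩
  rw [e, mul_ap, mul_ap, hX x' hx', hc, map_smul]

theorem n_mem (hX : ∀ x ∈ X, ρ x w = w) (hH : ∀ t ∈ H, ∃ c : k, ρ t w = c • w) {μ : k} (hμ : Tn ρ X n w = μ • w) :
    ρ n w ∈ Submodule.span k {z | ∃ y ∈ Y, z = ρ y w} := by
  classical
  let _ := Fintype.ofFinite X
  rw [Tn_apply, ← Finset.add_sum_erase univ _ (Finset.mem_univ (1 : X))] at hμ
  have e1 : ρ (((1 : X) : G) * n) w = ρ n w := by rw [Subgroup.coe_one, one_mul]
  rw [e1] at hμ
  have e2 := eq_sub_of_add_eq hμ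
  rw [e2]
  refine Submodule.sub_mem _ (Submodule.smul_mem _ _ (Submodule.subset_span ⟨1, one_mem _, (one_ap ρ w).symm⟩))
    (Submodule.sum_mem _ fun x hx => ?_)
  have hx1 : (x : G) ≠ 1 := fun h => (Finset.mem_erase.1 hx).1 (Subtype.ext h)
  obtain ⟨y, hy, t, ht, c, -, e⟩ := r.term hX hH x.2 hx1
  rw [e]
  exact Submodule.smul_mem _ _ (Submodule.subset_span ⟨y, hy, rfl⟩)

/-- `y = x₁ n t x₂` -/
theorem y_eq {y : G} (hy : y ∈ Y) (hy1 : y ≠ 1) : ∃ x₁ ∈ X, ∃ t ∈ D, ∃ x₂ ∈ X, y = x₁ * n * t * x₂ := by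
  have h1 := r.YX y hy
  have h2 : n * y * n ≠ 1 := by
    intro h
    apply hy1
    have h3 : n * (n * y * n) * n = n * n := by rw [h, mul_one]
    have h4 : n * (n * y * n) * n = (n * n) * y * (n * n) := by group
    rw [h4, r.sq, one_mul, mul_one] at h3
    exact h3
  obtain ⟨y', hy', t, ht, x', hx', e⟩ := r.rk _ h1 h2
  refine ⟨n * y' * n, r.YX y' hy', t, ht, x', hx', ?_⟩
  have e1 : n * y * n * n = n * y := by rw [mul_assoc, r.sq, mul_one]
  rw [e1] at e
  have e2 : n * y' * n * n * t * x' = n * (y' * t * x') := by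
    rw [mul_assoc (n * y') n n, r.sq, mul_one]; group
  rw [e2, ← e, ← mul_assoc, r.sq, one_mul]

theorem xy_mem (hX : ∀ x ∈ X, ρ x w = w) (hH : ∀ t ∈ H, ∃ c : k, ρ t w = c • w) {μ : k} (hμ : Tn ρ X n w = μ • w)
    {x y : G} (hx : x ∈ X) (hy : y ∈ Y) : ρ (x * y) w ∈ Submodule.span k {z | ∃ y ∈ Y, z = ρ y w} := by
  by_cases hy1 : y = 1
  · rw [hy1, mul_one, hX x hx]
    exact Submodule.subset_span ⟨1, one_mem _, (one_ap ρ w).symm⟩
  obtain ⟨x₁, hx₁, t, ht, x₂, hx₂, rfl⟩ := r.y_eq hy hy1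
  obtain ⟨c, hc⟩ := hH t (r.DH ht)
  have e : x * (x₁ * n * t * x₂) = (x * x₁) * n * t * x₂ := by group
  rw [e, mul_ap, mul_ap, hX x₂ hx₂, hc, map_smul]
  refine Submodule.smul_mem _ _ ?_
  by_cases h : x * x₁ = 1
  · rw [h, one_mul]
    exact r.n_mem hX hH hμ
  · obtain ⟨y', hy', t', ht', c', -, e'⟩ := r.term hX hH (mul_mem hx hx₁) h
    rw [e']
    exact Submodule.smul_mem _ _ (Submodule.subset_span ⟨y', hy', rfl⟩)

theorem Tn_y (ρ : G →* Module.End k V) (w : V) {y : G} (hy : y ∈ Y) : Tn ρ X n (ρ y w) = Tn ρ X n w := by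
  have h := Tn_mul ρ X n (r.YX y hy) w
  have e : n⁻¹ * (n * y * n) * n = y := by
    rw [r.n_inv]
    have : n * (n * y * n) * n = (n * n) * y * (n * n) := by group
    rw [this, r.sq, one_mul, mul_one]
  rw [e] at h
  exact h

theorem Tn_n (hX : ∀ x ∈ X, ρ x w = w) : Tn ρ X n (ρ n w) = (Nat.card X : k) • w := by
  let _ := Fintype.ofFinite X
  rw [Tn_apply]
  have : ∀ x : X, ρ ((x : G) * n) (ρ n w) = w := by
    intro x
    rw [← mul_ap, mul_assoc, r.sq, mul_one, hX x x.2]
  simp only [this]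
  rw [Finset.sum_const, Finset.card_univ, ← Nat.card_eq_fintype_card, ← Nat.cast_smul_eq_nsmul k]

theorem Tn_sq (hX : ∀ x ∈ X, ρ x w = w) (hH : ∀ t ∈ H, ∃ c : k, ρ t w = c • w) (h0 : (Nat.card X : k) = 0) :
    ∃ s : k, Tn ρ X n (Tn ρ X n w) = s • Tn ρ X n w := by
  classical
  let _ := Fintype.ofFinite X
  have h1 : ∀ x : X, ∃ c : k, (x : G) ≠ 1 → Tn ρ X n (ρ ((x : G) * n) w) = c • Tn ρ X n w := by
    intro x
    by_cases hx1 : (x : G) = 1
    · exact ⟨0, fun h => absurd hx1 h⟩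
    · obtain ⟨y, hy, t, ht, c, -, e⟩ := r.term hX hH x.2 hx1
      refine ⟨c, fun _ => ?_⟩
      rw [e, map_smul, r.Tn_y ρ w hy]
  choose c hc using h1
  refine ⟨∑ x ∈ univ.erase (1 : X), c x, ?_⟩
  conv_lhs => rw [Tn_apply ρ X n w]
  rw [map_sum, ← Finset.add_sum_erase univ _ (Finset.mem_univ (1 : X))]
  have e1 : ρ (((1 : X) : G) * n) w = ρ n w := by rw [Subgroup.coe_one, one_mul]
  rw [e1, r.Tn_n hX, h0, zero_smul, zero_add, Finset.sum_smul]
  refine Finset.sum_congr rfl fun x hx => hc x ?_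
  exact fun h => (Finset.mem_erase.1 hx).1 (Subtype.ext h)

/-- if `D` fixes `w` then `μ² = -μ` -/
theorem mu_one (hw : w ≠ 0) (hX : ∀ x ∈ X, ρ x w = w) (hH : ∀ t ∈ H, ∃ c : k, ρ t w = c • w)
    (hD : ∀ t ∈ D, ρ t w = w)
    (h0 : (Nat.card X : k) = 0) {μ : k} (hμ : Tn ρ X n w = μ • w) : μ = 0 ∨ μ = -1 := by
  classical
  let _ := Fintype.ofFinite X
  have h1 : Tn ρ X n (Tn ρ X n w) = (μ * μ) • w := by rw [hμ, map_smul, hμ, smul_smul]
  have h2 : Tn ρ X n (Tn ρ X n w) = -(μ • w) := by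
    conv_lhs => rw [Tn_apply ρ X n w]
    rw [map_sum, ← Finset.add_sum_erase univ _ (Finset.mem_univ (1 : X))]
    have e1 : ρ (((1 : X) : G) * n) w = ρ n w := by rw [Subgroup.coe_one, one_mul]
    rw [e1, r.Tn_n hX, h0, zero_smul, zero_add]
    have h3 : ∀ x ∈ univ.erase (1 : X), Tn ρ X n (ρ ((x : G) * n) w) = μ • w := by
      intro x hx
      have hx1 : (x : G) ≠ 1 := fun h => (Finset.mem_erase.1 hx).1 (Subtype.ext h)
      obtain ⟨y, hy, t, ht, c, hc, e⟩ := r.term hX hH x.2 hx1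
      rw [hD t ht] at hc
      have hc1 : c = 1 := smul_left_injective k hw (by show c • w = (1 : k) • w; rw [← hc, one_smul])
      rw [e, hc1, one_smul, r.Tn_y ρ w hy, hμ]
    rw [Finset.sum_congr rfl h3, Finset.sum_const, Finset.card_erase_of_mem (Finset.mem_univ _), Finset.card_univ,
      ← Nat.card_eq_fintype_card, ← Nat.cast_smul_eq_nsmul k, Nat.cast_sub Nat.card_pos, h0, Nat.cast_one,
      zero_sub, neg_smul, one_smul]
  rw [h1, ← neg_smul] at h2
  have h3 : μ * μ = -μ := smul_left_injective k hw h2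
  have h4 : μ * (μ + 1) = 0 := by linear_combination h3
  rcases mul_eq_zero.1 h4 with h | h
  · exact Or.inl h
  · exact Or.inr (eq_neg_of_add_eq_zero_left h)

/-- if `μ ≠ 0` then the eigenvalues of `D` are `±1` -/
theorem mu_zero (hw : w ≠ 0) {μ : k} (hμ : Tn ρ X n w = μ • w) (h0 : μ ≠ 0) {t : G} (ht : t ∈ D) {c : k}
    (hc : ρ t w = c • w) : c * c = 1 := by
  have hc0 : c ≠ 0 := by
    rintro rfl
    rw [zero_smul] at hc
    apply hw
    rw [← one_ap ρ w, ← inv_mul_cancel t, mul_ap, hc, map_zero]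
  have h1 := norm_Tn ρ X n (r.HX t (r.DH ht)) w
  have e : n⁻¹ * t * n = t⁻¹ := by rw [r.n_inv, r.nD t ht]
  have h2 : ρ t⁻¹ w = c⁻¹ • w := by
    have h3 : ρ t⁻¹ (ρ t w) = w := by rw [← mul_ap, inv_mul_cancel, one_ap]
    rw [hc, map_smul] at h3
    rw [← h3, smul_smul, inv_mul_cancel₀ hc0, one_smul]
    exact h3.symm ▸ rfl
  rw [e, h2, hμ, map_smul, map_smul, hc, hμ, smul_smul, smul_smul] at h1
  have h4 := smul_left_injective k hw h1
  have h5 : μ * c = c⁻¹ * μ := h4
  field_simp at h5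
  rw [← pow_two]
  exact h5

/-- `μ` from a `Y`-invariant functional -/
theorem mu_f (hw : w ≠ 0) (hX : ∀ x ∈ X, ρ x w = w) (hH : ∀ t ∈ H, ∃ c : k, ρ t w = c • w) (hD : ∀ t ∈ D, ρ t w = w)
    (h0 : (Nat.card X : k) = 0) {μ : k} (hμ : Tn ρ X n w = μ • w) (f : V →ₗ[k] k)
    (hf : ∀ y ∈ Y, f (ρ y w) = f w) : μ * f w = f (ρ n w) - f w := by
  classical
  let _ := Fintype.ofFinite X
  have h1 := congrArg f hμ
  rw [Tn_apply, map_sum, ← Finset.add_sum_erase univ _ (Finset.mem_univ (1 : X)), map_smul, smul_eq_mul] at h1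
  have e1 : ρ (((1 : X) : G) * n) w = ρ n w := by rw [Subgroup.coe_one, one_mul]
  rw [e1] at h1
  have h3 : ∀ x ∈ univ.erase (1 : X), f (ρ ((x : G) * n) w) = f w := by
    intro x hx
    have hx1 : (x : G) ≠ 1 := fun h => (Finset.mem_erase.1 hx).1 (Subtype.ext h)
    obtain ⟨y, hy, t, ht, c, hc, e⟩ := r.term hX hH x.2 hx1
    rw [hD t ht] at hc
    have hc1 : c = 1 := smul_left_injective k hw (by show c • w = (1 : k) • w; rw [← hc, one_smul])
    rw [e, hc1, one_smul, hf y hy]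
  rw [Finset.sum_congr rfl h3, Finset.sum_const, Finset.card_erase_of_mem (Finset.mem_univ _), Finset.card_univ,
    ← Nat.card_eq_fintype_card, nsmul_eq_mul, Nat.cast_sub Nat.card_pos, h0, Nat.cast_one] at h1
  rw [← h1]; ring

end R1

end rank1

/-! ### the opposite unipotent group -/

section neg

variable {ι G k V : Type*} [Group G] [Finite G] [Field k] [AddCommGroup V] [Module k V]

/-- the opposite unipotent group -/
structure Opp (Q : Subgroup G) (X Y M : ι → Subgroup G) : Prop where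
  dec : ∀ i, ∀ g ∈ Q, ∃ a ∈ M i, ∃ y ∈ Y i, g = a * y
  YQ : ∀ i, Y i ≤ Q
  MQ : ∀ i, M i ≤ Q
  XM : ∀ i, ∀ x ∈ X i, ∀ a ∈ M i, x * a * x⁻¹ ∈ M i
  gen : Q ⊔ ⨆ i, X i = ⊤

/-- **the span of `G w` is the span of `Q w`** -/
theorem span_neg {Q : Subgroup G} {X Y M : ι → Subgroup G} (o : Opp Q X Y M) (ρ : G →* Module.End k V) {w : V}
    (hxy : ∀ i, ∀ x ∈ X i, ∀ y ∈ Y i, ρ (x * y) w ∈ Submodule.span k {z | ∃ y ∈ Y i, z = ρ y w}) (g : G) :
    ρ g w ∈ Submodule.span k {z | ∃ u ∈ Q, z = ρ u w} := by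
  set W := Submodule.span k {z | ∃ u ∈ Q, z = ρ u w} with hW
  have key : ∀ g : G, ∀ z ∈ W, ρ g z ∈ W := by
    intro g
    have hg : g ∈ Q ⊔ ⨆ i, X i := by rw [o.gen]; trivial
    have hgen : (Q : Set G) ∪ ⋃ i, (X i : Set G) ⊆ {g | ∀ z ∈ W, ρ g z ∈ W} := by
      rintro g (hg | hg) z hz
      · induction hz using Submodule.span_induction with
        | mem z hz =>
          obtain ⟨u, hu, rfl⟩ := hz
          rw [← mul_ap]
          exact Submodule.subset_span ⟨g * u, mul_mem hg hu, rfl⟩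
        | zero => rw [map_zero]; exact W.zero_mem
        | add a b _ _ h1 h2 => rw [map_add]; exact W.add_mem h1 h2
        | smul c a _ h1 => rw [map_smul]; exact W.smul_mem _ h1
      · obtain ⟨i, hi⟩ := Set.mem_iUnion.1 hg
        induction hz using Submodule.span_induction with
        | mem z hz =>
          obtain ⟨u, hu, rfl⟩ := hz
          obtain ⟨a, ha, y, hy, rfl⟩ := o.dec i u hu
          have e : g * (a * y) = (g * a * g⁻¹) * (g * y) := by group
          rw [← mul_ap, e, mul_ap]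
          have h1 := hxy i g hi y hy
          have h2 := o.MQ i (o.XM i g hi a ha)
          generalize ρ (g * y) w = z at h1
          induction h1 using Submodule.span_induction with
          | mem z hz =>
            obtain ⟨y', hy', rfl⟩ := hz
            rw [← mul_ap]
            exact Submodule.subset_span ⟨_, mul_mem h2 (o.YQ i hy'), rfl⟩
          | zero => rw [map_zero]; exact W.zero_mem
          | add a b _ _ h1 h2 => rw [map_add]; exact W.add_mem h1 h2
          | smul c a _ h1 => rw [map_smul]; exact W.smul_mem _ h1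
        | zero => rw [map_zero]; exact W.zero_mem
        | add a b _ _ h1 h2 => rw [map_add]; exact W.add_mem h1 h2
        | smul c a _ h1 => rw [map_smul]; exact W.smul_mem _ h1
    have hle : (Q ⊔ ⨆ i, X i) = Subgroup.closure ((Q : Set G) ∪ ⋃ i, (X i : Set G)) := by
      rw [Subgroup.closure_union, Subgroup.closure_iUnion, Subgroup.closure_eq]
      simp only [Subgroup.closure_eq]
    rw [hle] at hg
    induction hg using Subgroup.closure_induction with
    | mem g hg => exact hgen hg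
    | one => intro z hz; rw [one_ap]; exact hz
    | mul a b _ _ h1 h2 => intro z hz; rw [mul_ap]; exact h1 _ (h2 _ hz)
    | inv a _ h1 =>
      intro z hz
      -- `a` has finite order
      obtain ⟨n, hn⟩ : ∃ n : ℕ, a⁻¹ = a ^ n := by
        have := (mem_powers_iff_mem_zpowers (x := a) (y := a⁻¹)).2 (Subgroup.inv_mem _ (Subgroup.mem_zpowers a))
        obtain ⟨n, hn⟩ := this
        exact ⟨n, hn.symm⟩
      rw [hn]
      clear hn
      induction n with
      | zero => rw [pow_zero, one_ap]; exact hz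
      | succ n ih => rw [pow_succ', mul_ap]; exact h1 _ ih
  exact key g w (Submodule.subset_span ⟨1, one_mem _, (one_ap ρ w).symm⟩)

end neg

/-! ### a common eigenvector -/

section simul

variable {k V : Type*} [Field k] [AddCommGroup V] [Module k V]

/-- alternating words -/
def alt (T : Bool → Module.End k V) : Bool → ℕ → V → V
  | _, 0, v => v
  | b, m + 1, v => T b (alt T (!b) m v)

theorem exists_simul (T : Bool → Module.End k V) (E : V → Prop) (hT : ∀ b v, E v → E (T b v))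
    (hsq : ∀ b v, E v → ∃ s : k, T b (T b v) = s • T b v) (L : ℕ) (hL : 0 < L)
    (hbr : ∀ b v, E v → ∃ c : k, alt T b L v = c • alt T (!b) L v) {v : V} (hv : E v) (hv0 : v ≠ 0) :
    ∃ w, w ≠ 0 ∧ E w ∧ ∀ b, ∃ μ : k, T b w = μ • w := by
  classical
  have hE : ∀ m b, E (alt T b m v) := by
    intro m
    induction m with
    | zero => exact fun _ => hv
    | succ m ih => exact fun b => hT b _ (ih _)
  set P : ℕ → Prop := fun m => ∃ b, alt T b m v ≠ 0 with hP
  have hP0 : P 0 := ⟨true, hv0⟩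
  set m := Nat.findGreatest P L with hm
  have hPm : P m := Nat.findGreatest_spec (Nat.zero_le L) hP0
  have hmL : m ≤ L := Nat.findGreatest_le L
  obtain ⟨b, hb⟩ := hPm
  refine ⟨_, hb, hE m b, ?_⟩
  -- the other letter
  have hother : ∃ μ : k, T (!b) (alt T b m v) = μ • alt T b m v := by
    rcases lt_or_eq_of_le hmL with h | h
    · have h1 := Nat.findGreatest_is_greatest (P := P) (n := L) (k := m + 1) (by omega) (by omega)
      rw [hP] at h1
      push Not at h1
      refine ⟨0, ?_⟩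
      rw [zero_smul]
      have := h1 (!b)
      rw [alt, Bool.not_not] at this
      exact this
    · obtain ⟨c, hc⟩ := hbr b v hv
      have hc' : alt T b m v = c • alt T (!b) m v := by rw [h]; exact hc
      have hc0 : c ≠ 0 := by
        rintro rfl
        rw [zero_smul] at hc'
        exact hb hc'
      obtain ⟨l, hl⟩ : ∃ l, m = l + 1 := ⟨m - 1, by omega⟩
      obtain ⟨s, hs⟩ := hsq (!b) _ (hE l b)
      refine ⟨s, ?_⟩
      have e : alt T (!b) m v = T (!b) (alt T b l v) := by rw [hl, alt, Bool.not_not]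
      rw [hc', e, map_smul, hs, smul_comm]
  -- the same letter
  have hsame : ∃ μ : k, T b (alt T b m v) = μ • alt T b m v := by
    rcases Nat.eq_zero_or_pos m with h | h
    · have h1 := Nat.findGreatest_is_greatest (P := P) (n := L) (k := m + 1) (by omega) (by omega)
      rw [hP] at h1
      push Not at h1
      refine ⟨0, ?_⟩
      rw [zero_smul]
      have := h1 b
      rw [h] at this ⊢
      exact this
    · obtain ⟨l, hl⟩ : ∃ l, m = l + 1 := ⟨m - 1, by omega⟩
      obtain ⟨s, hs⟩ := hsq b _ (hE l (!b))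
      refine ⟨s, ?_⟩
      have e : alt T b m v = T b (alt T (!b) l v) := by rw [hl, alt]
      rw [e, hs]
  intro b'
  rcases eq_or_ne b' b with h | h
  · rw [h]; exact hsame
  · have : b' = !b := by cases b <;> cases b' <;> simp_all
    rw [this]; exact hother

end simul

end Cfsg.Agent.H421.TW
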