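import Cfsg.Agent.H421.TW.Abs
import Cfsg.Agent.H45.Uni.Transfer
import Cfsg.Agent.KFacts.TwF4.Arc

/-!
# Weight vectors of a group of type `²F₄` in characteristic two (helper421)

`S : Full σ G` (`KFacts/TwF4/Full.lean`; instance `KFacts.TwF4.Inst.full hK hφ : Full φ ↥(twistedF4 K (2 ^ m))`).
Nodes: `true` : `X_1 = {o 0 t}`, `n_1`, `D_1 = {h c c}`; `false` : `X_8 = {e 4 p u}`, `n_2`, `D_2 = {h (σ d) d}`.

* `Wt S ρ w` : `w` is fixed by `P = ⟨X_1, …, X_8⟩`, an eigenvector of the torus and of the two operators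
  `Tn ρ (XX S b) (nn S b)`;
* `exists_wt` : such vectors exist over an algebraically closed field of characteristic two;
* `Wt.gen` : the span of `G w` is the span of `Q w`, `Q = ⟨X_9, …, X_16⟩`;
* `Wt.mu_zero`, `Wt.mu_one`, `Wt.mu_f` : the eigenvalues `μ`.
-/

set_option autoImplicit false
set_option linter.unusedSectionVars false

namespace Cfsg.Agent.H421.TW

open Cfsg.Agent.SplitTwo Cfsg.Agent.SplitTwo.ZS Cfsg.Agent.TitsThree.RankTwoZ Cfsg.Agent.KFacts.TwF4 Finset
open Cfsg.Agent.KFacts.TwF4.Full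

universe u

/-! ### eigenvectors -/

section eig

variable {G k V : Type*} [Group G] [Field k] [AddCommGroup V] [Module k V]

theorem exists_eig [IsAlgClosed k] [FiniteDimensional k V] (ρ : G →* Module.End k V) (T : Subgroup G)
    (hT : ∀ s ∈ T, ∀ t ∈ T, s * t = t * s) (E : Submodule k V) (hE : E ≠ ⊥) (hinv : ∀ t ∈ T, ∀ v ∈ E, ρ t v ∈ E) :
    ∃ v ∈ E, v ≠ 0 ∧ ∀ t ∈ T, ∃ c : k, ρ t v = c • v := by
  obtain ⟨N, ⟨hN0, hNE, hNT⟩, hmin⟩ := (wellFounded_lt : WellFounded ((· < ·) : Submodule k V → _ → Prop)).has_min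
    {N | N ≠ ⊥ ∧ N ≤ E ∧ ∀ t ∈ T, ∀ v ∈ N, ρ t v ∈ N} ⟨E, hE, le_rfl, hinv⟩
  have hsc : ∀ t ∈ T, ∃ c : k, ∀ v ∈ N, ρ t v = c • v := by
    intro t ht
    have hnt : Nontrivial N := Submodule.nontrivial_iff_ne_bot.2 hN0
    obtain ⟨c, hc⟩ := Module.End.exists_eigenvalue ((ρ t).restrict (hNT t ht))
    obtain ⟨v, hv, hv0⟩ := hc.exists_hasEigenvector
    have hv1 : ρ t v = c • (v : V) := congrArg Subtype.val (Module.End.mem_eigenspace_iff.1 hv)
    set N' : Submodule k V := N ⊓ LinearMap.ker (ρ t - c • (1 : Module.End k V)) with hN'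
    have hmem : ∀ v, v ∈ N' ↔ v ∈ N ∧ ρ t v = c • v := by
      intro v
      rw [hN', Submodule.mem_inf, LinearMap.mem_ker, LinearMap.sub_apply, LinearMap.smul_apply, Module.End.one_apply,
        sub_eq_zero]
    have h1 : ¬ N' < N := by
      refine hmin N' ⟨?_, le_trans inf_le_left hNE, ?_⟩
      · intro h
        have h2 : (v : V) ∈ N' := (hmem _).2 ⟨v.2, hv1⟩
        rw [h, Submodule.mem_bot] at h2
        exact hv0 (Subtype.ext h2)
      · intro s hs w hw
        obtain ⟨hw1, hw2⟩ := (hmem w).1 hw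
        refine (hmem _).2 ⟨hNT s hs w hw1, ?_⟩
        rw [← mul_ap, hT t ht s hs, mul_ap, hw2, map_smul]
    have h2 : N' = N := by
      by_contra hne
      exact h1 (lt_of_le_of_ne inf_le_left hne)
    refine ⟨c, fun w hw => ?_⟩
    rw [← h2] at hw
    exact ((hmem w).1 hw).2
  obtain ⟨v, hv, hv0⟩ := (Submodule.ne_bot_iff N).1 hN0
  refine ⟨v, hNE hv, hv0, fun t ht => ?_⟩
  obtain ⟨c, hc⟩ := hsc t ht
  exact ⟨c, hc v hv⟩

end eig

/-! ### composition of sums -/

section comp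

variable {G k V : Type*} [Group G] [Finite G] [Field k] [AddCommGroup V] [Module k V]

theorem Tn_comp (ρ : G →* Module.End k V) {A B C : Subgroup G} {n g : G}
    (h1 : ∀ x ∈ A, ∀ u ∈ B, x * (n * u * n⁻¹) ∈ C)
    (h2 : ∀ c ∈ C, ∃ x ∈ A, ∃ u ∈ B, c = x * (n * u * n⁻¹))
    (h3 : ∀ x ∈ A, ∀ u ∈ B, x = n * u * n⁻¹ → x = 1) (w : V) :
    Tn ρ A n (Tn ρ B g w) = Tn ρ C (n * g) w := by
  classical
  let _ := Fintype.ofFinite A
  let _ := Fintype.ofFinite B
  let _ := Fintype.ofFinite C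
  rw [Tn_apply, Tn_apply, Tn_apply]
  have e : ∀ x : A, ρ ((x : G) * n) (∑ u : B, ρ ((u : G) * g) w) =
      ∑ u : B, ρ (((x : G) * (n * (u : G) * n⁻¹)) * (n * g)) w := by
    intro x
    rw [map_sum]
    refine Finset.sum_congr rfl fun u _ => ?_
    rw [← mul_ap]
    congr 2
    group
  simp only [e]
  rw [← Fintype.sum_prod_type' (f := fun (x : A) (u : B) => ρ (((x : G) * (n * (u : G) * n⁻¹)) * (n * g)) w)]
  refine Fintype.sum_bijective (fun x : A × B => (⟨x.1 * (n * x.2 * n⁻¹), h1 _ x.1.2 _ x.2.2⟩ : C)) ⟨?_, ?_⟩ _ _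
    fun x => rfl
  · rintro ⟨x, u⟩ ⟨x', u'⟩ h
    have h4 : (x : G) * (n * (u : G) * n⁻¹) = (x' : G) * (n * (u' : G) * n⁻¹) := congrArg Subtype.val h
    have h5 : (x' : G)⁻¹ * x = n * ((u' : G) * (u : G)⁻¹) * n⁻¹ := by
      have h6 : (x : G) = (x' : G) * (n * (u' : G) * n⁻¹) * (n * (u : G) * n⁻¹)⁻¹ := by
        rw [← h4]; group
      rw [h6]; group
    have h6 := h3 _ (mul_mem (inv_mem x'.2) x.2) _ (mul_mem u'.2 (inv_mem u.2)) h5
    have h7 : (x : G) = x' := (inv_mul_eq_one.1 h6).symm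
    rw [h6] at h5
    have h8 : (u' : G) * (u : G)⁻¹ = 1 := by
      have h9 := congrArg (fun z => n⁻¹ * z * n) h5
      have h10 : n⁻¹ * (n * ((u' : G) * (u : G)⁻¹) * n⁻¹) * n = (u' : G) * (u : G)⁻¹ := by group
      simp only [h10] at h9
      rw [← h9]; group
    have h9 : (u : G) = u' := (mul_inv_eq_one.1 h8).symm
    exact Prod.ext (Subtype.ext h7) (Subtype.ext h9)
  · rintro ⟨c, hc⟩
    obtain ⟨x, hx, u, hu, rfl⟩ := h2 c hc
    exact ⟨(⟨x, hx⟩, ⟨u, hu⟩), rfl⟩

theorem Tn_mul_right (ρ : G →* Module.End k V) (A : Subgroup G) (g t : G) (w : V) :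
    Tn ρ A (g * t) w = Tn ρ A g (ρ t w) := by
  let _ := Fintype.ofFinite A
  rw [Tn_apply, Tn_apply]
  refine Finset.sum_congr rfl fun u _ => ?_
  rw [← mul_ap, mul_assoc]

end comp

variable {F : Type*} [Field F] {σ : F →+* F} {G : Type u} [Group G] (S : Full σ G)

/-! ### the data -/

/-- the positive unipotent group -/
def P : Subgroup G := J S.XZ 1 8
/-- the negative unipotent group -/
def Q : Subgroup G := J S.XZ 9 16
/-- the simple root groups -/
def XX : Bool → Subgroup G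
  | true => S.XZ 1
  | false => S.XZ 8
/-- the opposite simple root groups -/
def YY : Bool → Subgroup G
  | true => S.XZ 9
  | false => S.XZ 16
/-- the unipotent radicals of the opposite minimal parabolics -/
def MM : Bool → Subgroup G
  | true => J S.XZ 10 16
  | false => J S.XZ 9 15
/-- the unipotent radicals of the minimal parabolics -/
def NN : Bool → Subgroup G
  | true => J S.XZ 2 8
  | false => J S.XZ 1 7
/-- the reflections -/
def nn : Bool → G
  | true => S.n1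
  | false => S.n2

/-- `c ↦ h c c`, `d ↦ h (σ d) d` -/
def hc : Bool → Fˣ → G
  | true => fun c => S.h c c
  | false => fun d => S.h (Units.map (σ : F →* F) d) d

theorem hc_mul (b : Bool) (c d : Fˣ) : hc S b (c * d) = hc S b c * hc S b d := by
  cases b
  · show S.h (Units.map (σ : F →* F) (c * d)) (c * d) = S.h _ _ * S.h _ _
    rw [S.h_mul, map_mul]
  · show S.h (c * d) (c * d) = S.h _ _ * S.h _ _
    rw [S.h_mul]

/-- the tori of the rank one groups -/
def DD (b : Bool) : Subgroup G where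
  carrier := {g | ∃ c, hc S b c = g}
  one_mem' := ⟨1, by
    cases b
    · show S.h (Units.map (σ : F →* F) 1) 1 = 1
      rw [map_one, S.h_one]
    · show S.h 1 1 = 1
      rw [S.h_one]⟩
  mul_mem' := by
    rintro _ _ ⟨c, rfl⟩ ⟨d, rfl⟩
    exact ⟨c * d, hc_mul S b c d⟩
  inv_mem' := by
    rintro _ ⟨c, rfl⟩
    refine ⟨c⁻¹, ?_⟩
    cases b
    · show S.h (Units.map (σ : F →* F) c⁻¹) c⁻¹ = (S.h _ _)⁻¹
      rw [S.h_inv, map_inv]
    · show S.h c⁻¹ c⁻¹ = (S.h _ _)⁻¹
      rw [S.h_inv]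

theorem mem_DD {b : Bool} {g : G} : g ∈ DD S b ↔ ∃ c, hc S b c = g := Iff.rfl

theorem hc_mem (b : Bool) (c : Fˣ) : hc S b c ∈ DD S b := ⟨c, rfl⟩

theorem nn_sq (b : Bool) : nn S b * nn S b = 1 := by
  cases b
  · exact S.n2_sq
  · exact S.n1_sq

theorem nn_inv (b : Bool) : (nn S b)⁻¹ = nn S b := inv_eq_of_mul_eq_one_left (nn_sq S b)

theorem refl (b : Bool) : Refl S.XZ (bif b then 10 else 8) (nn S b) := by
  cases b
  · exact S.n2_refl
  · exact S.n1_refl

theorem XZ_16 (k : ℤ) : S.XZ (k - 16) = S.XZ k := by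
  have := S.zsys8.per' k
  simpa using this

/-! ### the reflections and the torus -/

theorem n2_maps : Maps S.R.X S.n2 (fun k => 8 - k) := by
  intro k x
  have h := S.n2_refl (k.val : ℤ) x
  have hk : (((k.val : ℕ) : ℤ) : ZMod (2 * 8)) = k := by rw [Int.cast_natCast]; exact ZMod.natCast_zmod_val _
  have h8 : x ∈ S.XZ (k.val : ℤ) ↔ x ∈ S.R.X k := by show x ∈ S.R.X _ ↔ _; rw [hk]
  have h9 : S.n2 * x * S.n2⁻¹ ∈ S.XZ (8 - (k.val : ℤ)) ↔ S.n2 * x * S.n2⁻¹ ∈ S.R.X (8 - k) := by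
    show _ ∈ S.R.X _ ↔ _
    rw [Int.cast_sub, hk]; rfl
  rw [h8, h9] at h
  exact h.symm

theorem n2_h (c d : Fˣ) : S.n2 * S.h c d * S.n2⁻¹ = S.h c⁻¹ (d / Units.map (σ : F →* F) c) := by
  have hT : S.h c d ∈ S.T := S.mem_T.2 ⟨c, d, rfl⟩
  have hT' : S.n2 * S.h c d * S.n2⁻¹ ∈ S.T := by
    show Maps S.R.X _ id
    have h1 : Maps S.R.X S.n2⁻¹ (fun k => 8 - k) := by rw [Arc.n2_inv S]; exact n2_maps S
    exact (((n2_maps S).mul hT).mul h1).congr fun k => by
      show 8 - (8 - k) = k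
      exact sub_sub_cancel 8 k
  have key : ∀ a : ZMod 8, (S.n2 * S.h c d * S.n2⁻¹) * S.e a 1 0 * (S.n2 * S.h c d * S.n2⁻¹)⁻¹ =
      S.e a (chE σ (4 - a) c d) 0 := by
    intro a
    have e1 : (S.n2 * S.h c d * S.n2⁻¹) * S.e a 1 0 * (S.n2 * S.h c d * S.n2⁻¹)⁻¹ =
        S.n2 * (S.h c d * (S.n2⁻¹ * S.e a 1 0 * S.n2) * (S.h c d)⁻¹) * S.n2⁻¹ := by group
    have e2 : S.n2⁻¹ * S.e a 1 0 * S.n2 = S.e (4 - a) 1 0 := by
      have := S.n2_e a 1 0
      rw [Arc.n2_inv S] at this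
      rw [Arc.n2_inv S]; exact this
    rw [e1, e2, S.h_e, S.n2_e, mul_one, mul_zero]
    congr 1; ring
  refine Arc.h_eq_of S hT' ?_ ?_
  · have := key 0
    rw [sub_zero, chE_four] at this
    exact this
  · have := key 1
    rw [show (4 : ZMod 8) - 1 = 3 by decide, chE_three] at this
    exact this

theorem T_comm : ∀ s ∈ S.T, ∀ t ∈ S.T, s * t = t * s := by
  intro s hs t ht
  obtain ⟨c, d, rfl⟩ := S.mem_T.1 hs
  obtain ⟨c', d', rfl⟩ := S.mem_T.1 ht
  rw [S.h_mul, S.h_mul, mul_comm c, mul_comm d]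

theorem DD_le (b : Bool) : DD S b ≤ S.T := by
  rintro _ ⟨c, rfl⟩
  cases b
  · exact S.mem_T.2 ⟨_, _, rfl⟩
  · exact S.mem_T.2 ⟨_, _, rfl⟩

theorem nH (b : Bool) : ∀ t ∈ S.T, nn S b * t * nn S b ∈ S.T := by
  intro t ht
  obtain ⟨c, d, rfl⟩ := S.mem_T.1 ht
  cases b
  · have := n2_h S c d
    rw [Arc.n2_inv S] at this
    show S.n2 * _ * S.n2 ∈ _
    rw [this]
    exact S.mem_T.2 ⟨_, _, rfl⟩
  · have := Arc.n1_h S c d
    rw [Arc.n1_inv S] at this
    show S.n1 * _ * S.n1 ∈ _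
    rw [this]
    exact S.mem_T.2 ⟨_, _, rfl⟩

theorem nD (b : Bool) : ∀ t ∈ DD S b, nn S b * t * nn S b = t⁻¹ := by
  rintro _ ⟨c, rfl⟩
  cases b
  · have := n2_h S (Units.map (σ : F →* F) c) c
    rw [Arc.n2_inv S] at this
    show S.n2 * S.h _ _ * S.n2 = (S.h _ _)⁻¹
    rw [this, S.h_inv]
    congr 1
    rw [map_map σ S.sq c, div_eq_iff_eq_mul, pow_two, ← mul_assoc, inv_mul_cancel, one_mul]
  · have := Arc.n1_h S c c
    rw [Arc.n1_inv S] at this
    show S.n1 * S.h _ _ * S.n1 = (S.h _ _)⁻¹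
    rw [this, S.h_inv]

/-- an element of `⟨X_1, X_9⟩` or `⟨X_0, X_8⟩` in the torus -/
theorem mem_DD_of {b : Bool} {t : G} (ht : t ∈ S.T)
    (h : bif b then t * S.o 2 1 = S.o 2 1 * t else t * S.e 2 1 0 = S.e 2 1 0 * t) : t ∈ DD S b := by
  obtain ⟨c, d, rfl⟩ := S.mem_T.1 ht
  cases b
  · have h1 : S.h c d * S.e 2 1 0 = S.e 2 1 0 * S.h c d := h
    have h2 := S.h_e c d 2 1 0
    rw [h1, mul_inv_cancel_right, mul_one, mul_zero] at h2
    have h3 := (S.injE _ _ _ _ _ h2).1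
    have h4 : (chE σ 2 c d) = 1 := Units.ext h3.symm
    rw [chE_two, div_eq_one] at h4
    exact ⟨d, by show S.h (Units.map (σ : F →* F) d) d = _; rw [h4]⟩
  · have h1 : S.h c d * S.o 2 1 = S.o 2 1 * S.h c d := h
    have h2 := S.h_o c d 2 1
    rw [h1, mul_inv_cancel_right, mul_one] at h2
    have h3 := S.injO _ h2
    have h4 : (chO σ 2 c d) = 1 := Units.ext h3.symm
    have h5 : chO σ 2 c d = (d / c) * Units.map (σ : F →* F) (d / c) := by
      unfold chO
      rw [show (2 : ZMod 8) + 1 = 3 by decide, chE_two, chE_three, map_div]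
      rw [div_mul_div_comm, div_mul_div_comm]
      congr 1
      rw [mul_comm]
    rw [h5] at h4
    have h6 := Arc.s1 S h4
    rw [div_eq_one] at h6
    exact ⟨c, by show S.h c c = _; rw [h6]⟩

/-! ### the rank one data -/

theorem XY (b : Bool) : ∀ x ∈ XX S b, nn S b * x * nn S b ∈ YY S b := by
  intro x hx
  have h := (refl S b).mem (j := bif b then 1 else 8) (x := x) (by cases b <;> exact hx)
  rw [nn_inv S b] at h
  cases b
  · have h1 : nn S false * x * nn S false ∈ S.XZ (16 - 16) := h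
    rw [XZ_16] at h1
    exact h1
  · exact h

theorem YX (b : Bool) : ∀ x ∈ YY S b, nn S b * x * nn S b ∈ XX S b := by
  intro x hx
  have h := (refl S b).mem (j := bif b then 9 else 16) (x := x) (by cases b <;> exact hx)
  rw [nn_inv S b] at h
  cases b
  · have h1 : nn S false * x * nn S false ∈ S.XZ (8 - 16) := h
    rw [XZ_16] at h1
    exact h1
  · exact h

theorem comm_XX {b : Bool} {x : G} (hx : x ∈ XX S b) :
    bif b then x * S.o 2 1 = S.o 2 1 * x else x * S.e 2 1 0 = S.e 2 1 0 * x := by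
  cases b
  · obtain ⟨p, u, rfl⟩ := (S.mem_XZ_even 4 x).1 hx
    exact (S.e_e2 2 1 0 p u).symm
  · obtain ⟨t, rfl⟩ := (S.mem_XZ_odd 0 x).1 hx
    exact S.o_o2 0 t 1

theorem comm_YY {b : Bool} {x : G} (hx : x ∈ YY S b) :
    bif b then x * S.o 2 1 = S.o 2 1 * x else x * S.e 2 1 0 = S.e 2 1 0 * x := by
  cases b
  · have hx' : x ∈ S.XZ (2 * 0) := by
      have := XZ_16 S 16
      rw [sub_self] at this
      rw [mul_zero, this]
      exact hx
    obtain ⟨p, u, rfl⟩ := (S.mem_XZ_even 0 x).1 hx'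
    exact S.e_e2 0 p u 1 0
  · obtain ⟨t, rfl⟩ := (S.mem_XZ_odd 4 x).1 hx
    exact (S.o_o2 2 1 t).symm

theorem comm_nn (b : Bool) :
    bif b then nn S b * S.o 2 1 = S.o 2 1 * nn S b else nn S b * S.e 2 1 0 = S.e 2 1 0 * nn S b := by
  cases b
  · have h := S.n2_e 2 1 0
    rw [show (4 : ZMod 8) - 2 = 2 by decide] at h
    show S.n2 * S.e 2 1 0 = S.e 2 1 0 * S.n2
    rw [mul_inv_eq_iff_eq_mul] at h
    exact h
  · have h := S.n1_o 2 1
    rw [show (4 : ZMod 8) - 2 = 2 by decide] at h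
    show S.n1 * S.o 2 1 = S.o 2 1 * S.n1
    rw [mul_inv_eq_iff_eq_mul] at h
    exact h

theorem mul_comm_el {a x y : G} (h1 : x * a = a * x) (h2 : y * a = a * y) : (x * y) * a = a * (x * y) := by
  rw [mul_assoc, h2, ← mul_assoc, h1, mul_assoc]

theorem rk (b : Bool) : ∀ x ∈ XX S b, x ≠ 1 →
    ∃ y ∈ YY S b, ∃ t ∈ DD S b, ∃ x' ∈ XX S b, x * nn S b = y * t * x' := by
  intro x hx hx1
  obtain ⟨v, hv, v', hv', hm⟩ := S.zsys8.mu (bif b then 1 else 8) x (by cases b <;> exact hx) hx1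
  have hvY : ∀ v ∈ S.XZ ((bif b then 1 else 8) - 8), v ∈ YY S b := by
    intro v hv
    cases b
    · have h1 : v ∈ S.XZ (16 - 16) := hv
      rw [XZ_16] at h1
      exact h1
    · have h1 : v ∈ S.XZ (9 - 16) := hv
      rw [XZ_16] at h1
      exact h1
  have hv1 := hvY v hv
  have hv1' := hvY v' hv'
  set m := v * x * v' with hmdef
  set t := m * nn S b with ht
  have htT : t ∈ S.T := by
    show Maps S.R.X t id
    intro k x
    have h := hm ((bif b then 10 else 8) - (k.val : ℤ)) (nn S b * x * (nn S b)⁻¹)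
    have h' := (refl S b) (k.val : ℤ) x
    rw [← h'] at h
    have hk : (((k.val : ℕ) : ℤ) : ZMod (2 * 8)) = k := by rw [Int.cast_natCast]; exact ZMod.natCast_zmod_val _
    have e1 : t * x * t⁻¹ = m * (nn S b * x * (nn S b)⁻¹) * m⁻¹ := by rw [ht]; group
    have e2 : 2 * (bif b then 1 else 8) - 8 - ((bif b then 10 else 8) - (k.val : ℤ)) = (k.val : ℤ) ∨
        2 * (bif b then 1 else 8) - 8 - ((bif b then 10 else 8) - (k.val : ℤ)) = (k.val : ℤ) - 16 := by
      cases b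
      · left
        show (2 * 8 - 8 - (8 - (k.val : ℤ)) : ℤ) = _
        ring
      · right
        show (2 * 1 - 8 - (10 - (k.val : ℤ)) : ℤ) = _
        ring
    have e3 : S.XZ (2 * (bif b then 1 else 8) - 8 - ((bif b then 10 else 8) - (k.val : ℤ))) = S.R.X k := by
      rcases e2 with e2 | e2
      · rw [e2]; show S.R.X _ = _; rw [hk]
      · rw [e2, XZ_16]; show S.R.X _ = _; rw [hk]
    rw [e3, ← e1] at h
    have e4 : S.XZ (k.val : ℤ) = S.R.X k := by show S.R.X _ = _; rw [hk]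
    rw [e4] at h
    exact h.symm
  have htD : t ∈ DD S b := by
    refine mem_DD_of S htT ?_
    cases b
    · exact mul_comm_el (mul_comm_el (mul_comm_el (comm_YY S hv1) (comm_XX S hx)) (comm_YY S hv1')) (comm_nn S false)
    · exact mul_comm_el (mul_comm_el (mul_comm_el (comm_YY S hv1) (comm_XX S hx)) (comm_YY S hv1')) (comm_nn S true)
  refine ⟨v⁻¹, inv_mem hv1, t, htD, nn S b * v'⁻¹ * nn S b, YX S b _ (inv_mem hv1'), ?_⟩
  have h1 : t * nn S b = m := by rw [ht, mul_assoc, nn_sq, mul_one]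
  calc x * nn S b = v⁻¹ * m * v'⁻¹ * nn S b := by rw [hmdef]; group
    _ = v⁻¹ * (t * nn S b) * v'⁻¹ * nn S b := by rw [h1]
    _ = v⁻¹ * t * (nn S b * v'⁻¹ * nn S b) := by group

theorem r1 (b : Bool) : R1 S.T (DD S b) (XX S b) (YY S b) (nn S b) where
  XY := XY S b
  YX := YX S b
  sq := nn_sq S b
  DH := DD_le S b
  HX := by
    intro t ht x hx
    cases b
    · exact S.T_conj ht 8 hx
    · exact S.T_conj ht 1 hx
  nH := nH S b
  nD := nD S b
  rk := rk S b

/-! ### the opposite unipotent group -/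

theorem opp : Opp (Q S) (XX S) (YY S) (MM S) where
  dec := by
    intro b g hg
    cases b
    · obtain ⟨y', hy', x, hx, e⟩ := S.zsys8.split_rr (a := 9) (b := 16) (by norm_num) (by norm_num) hg
      exact ⟨y', hy', x, hx, e⟩
    · obtain ⟨y', hy', x, hx, e⟩ := S.zsys8.split_lr (a := 9) (b := 16) (by norm_num) (by norm_num) hg
      exact ⟨y', hy', x, hx, e⟩
  YQ := by
    intro b
    cases b
    · exact X_le_J (by norm_num) (by norm_num)
    · exact X_le_J (by norm_num) (by norm_num)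
  MQ := by
    intro b
    cases b
    · exact J_mono (by norm_num) (by norm_num)
    · exact J_mono (by norm_num) (by norm_num)
  XM := by
    intro b x hx a ha
    cases b
    · exact S.zsys8.conj_X (a := 9) (b := 15) (k := 8) (by norm_num) (by norm_num) (by norm_num) hx ha
    · have hx' : x ∈ S.XZ 17 := by
        have := XZ_16 S 17
        rw [← this]
        exact hx
      exact S.zsys8.conj_X (a := 10) (b := 16) (k := 17) (by norm_num) (by norm_num) (by norm_num) hx' ha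
  gen := by
    set K := Q S ⊔ ⨆ i, XX S i with hK
    have hX1 : S.XZ 1 ≤ K := le_trans (le_iSup (XX S) true) le_sup_right
    have hX8 : S.XZ 8 ≤ K := le_trans (le_iSup (XX S) false) le_sup_right
    have hX9 : S.XZ 9 ≤ K := le_trans (X_le_J (X := S.XZ) (a := 9) (b := 16) (by norm_num) (by norm_num)) le_sup_left
    have hX16 : S.XZ 16 ≤ K :=
      le_trans (X_le_J (X := S.XZ) (a := 9) (b := 16) (by norm_num) (by norm_num)) le_sup_left
    have hn1 : S.n1 ∈ K := by
      rw [S.n1_word]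
      refine mul_mem (mul_mem (hX1 ?_) (hX9 ?_)) (hX1 ?_)
      · exact S.o_mem 0 1
      · exact S.o_mem 4 1
      · exact S.o_mem 0 1
    have h16 : S.XZ 0 = S.XZ 16 := by
      have := XZ_16 S 16
      rwa [sub_self] at this
    have hn2 : S.n2 ∈ K := by
      rw [S.n2_word]
      refine mul_mem (mul_mem (hX8 ?_) (hX16 ?_)) (hX8 ?_)
      · exact S.e_mem 4 0 1
      · rw [← h16]; exact S.e_mem 0 1 1
      · exact S.e_mem 4 1 0
    have h1 : ∀ j : ℤ, S.XZ j ≤ K → S.XZ (10 - j) ≤ K := by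
      intro j hj x hx
      have h2 := S.n1_refl.mem hx
      rw [sub_sub_cancel] at h2
      have h3 := hj h2
      have e : x = S.n1⁻¹ * (S.n1 * x * S.n1⁻¹) * S.n1 := by group
      rw [e]
      exact mul_mem (mul_mem (inv_mem hn1) h3) hn1
    have h2 : ∀ j : ℤ, S.XZ j ≤ K → S.XZ (8 - j) ≤ K := by
      intro j hj x hx
      have h2 := S.n2_refl.mem hx
      rw [sub_sub_cancel] at h2
      have h3 := hj h2
      have e : x = S.n2⁻¹ * (S.n2 * x * S.n2⁻¹) * S.n2 := by group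
      rw [e]
      exact mul_mem (mul_mem (inv_mem hn2) h3) hn2
    have h3 : ∀ j : ℤ, S.XZ j ≤ K → S.XZ (j + 2) ≤ K := by
      intro j hj
      have := h1 _ (h2 _ hj)
      rwa [show 10 - (8 - j) = j + 2 by ring] at this
    have h4 : ∀ n : ℕ, S.XZ (1 + 2 * n) ≤ K ∧ S.XZ (8 + 2 * n) ≤ K := by
      intro n
      induction n with
      | zero => simpa using ⟨hX1, hX8⟩
      | succ n ih =>
        have h5 := h3 _ ih.1
        have h6 := h3 _ ih.2
        constructor
        · have e : (1 : ℤ) + 2 * ((n + 1 : ℕ) : ℤ) = 1 + 2 * n + 2 := by push_cast; ring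
          rw [e]; exact h5
        · have e : (8 : ℤ) + 2 * ((n + 1 : ℕ) : ℤ) = 8 + 2 * n + 2 := by push_cast; ring
          rw [e]; exact h6
    rw [eq_top_iff, ← S.R.gen]
    refine iSup_le fun k => ?_
    have hk : (((k.val : ℕ) : ℤ) : ZMod (2 * 8)) = k := by rw [Int.cast_natCast]; exact ZMod.natCast_zmod_val _
    rcases Nat.even_or_odd' k.val with ⟨l, hl | hl⟩
    · have h5 := (h4 (l + 4)).2
      have e : S.XZ (8 + 2 * ((l + 4 : ℕ) : ℤ)) = S.R.X k := by
        rw [← XZ_16]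
        show S.R.X _ = _
        rw [← hk, hl]
        congr 2
        push_cast; ring
      rw [← e]; exact h5
    · have h5 := (h4 l).1
      have e : S.XZ (1 + 2 * ((l : ℕ) : ℤ)) = S.R.X k := by
        show S.R.X _ = _
        rw [← hk, hl]
        congr 2
        push_cast; ring
      rw [← e]; exact h5

/-! ### words -/

/-- the root groups made negative by an alternating word -/
def arc : Bool → ℕ → Subgroup G
  | true, m => J S.XZ 1 m
  | false, m => J S.XZ (9 - m) 8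

/-- alternating products of `n_1`, `n_2` -/
def gg : Bool → ℕ → G
  | _, 0 => 1
  | b, m + 1 => nn S b * gg (!b) m

theorem arc_mem (b : Bool) {m : ℕ} (hm : m + 1 ≤ 8) : ∀ x ∈ XX S b, ∀ u ∈ arc S (!b) m,
    x * (nn S b * u * (nn S b)⁻¹) ∈ arc S b (m + 1) := by
  intro x hx u hu
  cases b
  · have h1 := S.n2_refl.mem_J (a := 1) (b := m) (a' := 8 - m) (b' := 7) hu (by omega) (by omega)
    refine mul_mem (mem_J (k := 8) hx ?_ le_rfl) (J_mono ?_ ?_ h1)
    · push_cast; omega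
    · push_cast; omega
    · norm_num
  · have h1 := S.n1_refl.mem_J (a := 9 - m) (b := 8) (a' := 2) (b' := m + 1) hu (by omega) (by omega)
    refine mul_mem (mem_J (k := 1) hx le_rfl ?_) (J_mono ?_ ?_ h1)
    · push_cast; omega
    · norm_num
    · push_cast; omega

theorem arc_surj (b : Bool) {m : ℕ} (hm : m + 1 ≤ 8) : ∀ c ∈ arc S b (m + 1), ∃ x ∈ XX S b, ∃ u ∈ arc S (!b) m,
    c = x * (nn S b * u * (nn S b)⁻¹) := by
  intro c hc
  cases b
  · obtain ⟨x, hx, y, hy, rfl⟩ := S.zsys8.split_rl (a := 9 - ((m + 1 : ℕ) : ℤ)) (b := 8) (by push_cast; omega)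
      (by push_cast; omega) hc
    refine ⟨x, hx, S.n2⁻¹ * y * S.n2, ?_, ?_⟩
    · exact S.n2_refl.mem_J_inv (a' := 1) (b' := m) hy (by norm_num) (by push_cast; omega)
    · show x * y = x * (S.n2 * (S.n2⁻¹ * y * S.n2) * S.n2⁻¹)
      group
  · obtain ⟨x, hx, y, hy, rfl⟩ := S.zsys8.split_ll (a := 1) (b := ((m + 1 : ℕ) : ℤ)) (by push_cast; omega)
      (by push_cast; omega) hc
    refine ⟨x, hx, S.n1⁻¹ * y * S.n1, ?_, ?_⟩
    · exact S.n1_refl.mem_J_inv (a' := 9 - m) (b' := 8) hy (by push_cast; omega) (by norm_num)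
    · show x * y = x * (S.n1 * (S.n1⁻¹ * y * S.n1) * S.n1⁻¹)
      group

theorem arc_inj (b : Bool) {m : ℕ} (hm : m + 1 ≤ 8) : ∀ x ∈ XX S b, ∀ u ∈ arc S (!b) m,
    x = nn S b * u * (nn S b)⁻¹ → x = 1 := by
  intro x hx u hu e
  cases b
  · have h1 := S.n2_refl.mem_J (a := 1) (b := m) (a' := 8 - m) (b' := 7) hu (by omega) (by omega)
    have h2 : x ∈ J S.XZ (8 - m) 7 := by rw [e]; exact h1
    exact S.zsys8.inter' (k := 8) hx (J_mono (by omega) (by norm_num) h2)
  · have h1 := S.n1_refl.mem_J (a := 9 - m) (b := 8) (a' := 2) (b' := m + 1) hu (by omega) (by omega)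
    have h2 : x ∈ J S.XZ 2 (m + 1) := by rw [e]; exact h1
    exact S.zsys8.inter 1 x hx (J_mono (by norm_num) (by omega) h2)

section rep

variable [Finite G] {k V : Type*} [Field k] [AddCommGroup V] [Module k V] (ρ : G →* Module.End k V)

/-- the two operators -/
noncomputable def TT (b : Bool) : Module.End k V := Tn ρ (XX S b) (nn S b)

theorem word (m : ℕ) : ∀ b, m ≤ 8 → ∀ w : V, alt (TT S ρ) b m w = Tn ρ (arc S b m) (gg S b m) w := by
  induction m with
  | zero =>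
    intro b _ w
    have h : arc S b 0 = ⊥ := by
      cases b
      · exact J_empty (by norm_num)
      · exact J_empty (by norm_num)
    rw [h]
    let _ : Fintype (⊥ : Subgroup G) := Fintype.ofFinite _
    rw [Tn_apply]
    have : ∀ x : (⊥ : Subgroup G), ρ ((x : G) * gg S b 0) w = w := by
      intro x
      have hx : (x : G) = 1 := Subgroup.mem_bot.1 x.2
      rw [hx, one_mul]
      exact one_ap ρ w
    simp only [this]
    rw [Finset.sum_const, Finset.card_univ, ← Nat.card_eq_fintype_card, Subgroup.card_bot, one_smul]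
    rfl
  | succ m ih =>
    intro b hm w
    show TT S ρ b (alt (TT S ρ) (!b) m w) = _
    rw [ih (!b) (by omega) w]
    exact Tn_comp ρ (arc_mem S b hm) (arc_surj S b hm) (arc_inj S b hm) w

theorem gg_maps : ∀ m : ℕ, ∀ b, Maps S.R.X (gg S b m) (fun k => if Even m then (bif b then k + m else k - m)
    else (bif b then 9 + m - k else 9 - m - k)) := by
  intro m
  induction m with
  | zero =>
    intro b
    refine Maps.one.congr fun k => ?_
    cases b <;> simp
  | succ m ih =>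
    intro b
    cases b
    · refine ((n2_maps S).mul (ih true)).congr fun k => ?_
      by_cases h : Even m
      · have h' : ¬ Even (m + 1) := by rw [Nat.even_add_one]; simpa using h
        simp only [Function.comp, h, h', if_true, if_false, cond_true, cond_false]
        push_cast; ring
      · have h' : Even (m + 1) := by rw [Nat.even_add_one]; exact h
        simp only [Function.comp, h, h', if_true, if_false, cond_true, cond_false]
        push_cast; ring
    · refine ((Arc.n1_maps S).mul (ih false)).congr fun k => ?_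
      by_cases h : Even m
      · have h' : ¬ Even (m + 1) := by rw [Nat.even_add_one]; simpa using h
        simp only [Function.comp, h, h', if_true, if_false, cond_true, cond_false]
        push_cast; ring
      · have h' : Even (m + 1) := by rw [Nat.even_add_one]; exact h
        simp only [Function.comp, h, h', if_true, if_false, cond_true, cond_false]
        push_cast; ring

theorem gg_mem (b : Bool) : (gg S (!b) 8)⁻¹ * gg S b 8 ∈ S.T := by
  have h : ∀ b, Maps S.R.X (gg S b 8) (fun k => k + 8) := by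
    intro b
    refine (gg_maps S 8 b).congr fun k => ?_
    have h8 : Even 8 := by decide
    cases b
    · simp only [h8, if_true, cond_false]
      have : (16 : ZMod (2 * 8)) = 0 := by decide
      push_cast
      linear_combination -this
    · simp only [h8, if_true, cond_true]
      push_cast; ring
  have h1 := (h (!b)).inv (g := fun k => k - 8) (fun k => by ring)
  exact (h1.mul (h b)).congr fun k => by show k + 8 - 8 = k; ring

/-- fixed by `P`, eigenvector of the torus -/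
structure W0 (w : V) : Prop where
  fix : ∀ u ∈ P S, ρ u w = w
  tor : ∀ t ∈ S.T, ∃ c : k, ρ t w = c • w

omit [Finite G] in
theorem XX_le (b : Bool) : XX S b ≤ P S := by
  cases b
  · exact X_le_J (by norm_num) (by norm_num)
  · exact X_le_J (by norm_num) (by norm_num)

omit [Finite G] in
theorem P_dec (b : Bool) : ∀ g ∈ P S, ∃ x ∈ XX S b, ∃ a ∈ NN S b, g = x * a := by
  intro g hg
  cases b
  · exact S.zsys8.split_rl (a := 1) (b := 8) (by norm_num) (by norm_num) hg
  · exact S.zsys8.split_ll (a := 1) (b := 8) (by norm_num) (by norm_num) hg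

omit [Finite G] in
theorem NN_le (b : Bool) : NN S b ≤ P S := by
  cases b
  · exact J_mono (by norm_num) (by norm_num)
  · exact J_mono (by norm_num) (by norm_num)

omit [Finite G] in
theorem NN_conj (b : Bool) : ∀ x ∈ XX S b, ∀ a ∈ NN S b, x⁻¹ * a * x ∈ NN S b := by
  intro x hx a ha
  cases b
  · have := S.zsys8.conj_X (a := 1) (b := 7) (k := 8) (by norm_num) (by norm_num) (by norm_num) (inv_mem hx) ha
    rwa [inv_inv] at this
  · have := S.zsys8.conj_X (a := 2) (b := 8) (k := 1) (by norm_num) (by norm_num) (by norm_num) (inv_mem hx) ha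
    rwa [inv_inv] at this

omit [Finite G] in
theorem nn_NN (b : Bool) : ∀ a ∈ NN S b, (nn S b)⁻¹ * a * nn S b ∈ NN S b := by
  intro a ha
  cases b
  · exact S.n2_refl.mem_J_inv (a' := 1) (b' := 7) ha (by norm_num) (by norm_num)
  · exact S.n1_refl.mem_J_inv (a' := 2) (b' := 8) ha (by norm_num) (by norm_num)

variable {S ρ}

theorem W0.X {w : V} (h : W0 S ρ w) (b : Bool) : ∀ x ∈ XX S b, ρ x w = w := fun x hx => h.fix x (XX_le S b hx)

theorem W0.TT (b : Bool) {w : V} (h : W0 S ρ w) : W0 S ρ (TT S ρ b w) where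
  fix := by
    intro g hg
    obtain ⟨x, hx, a, ha, rfl⟩ := P_dec S b g hg
    rw [mul_ap]
    have h1 : ρ a (Tn ρ (XX S b) (nn S b) w) = Tn ρ (XX S b) (nn S b) w := by
      let _ := Fintype.ofFinite (XX S b)
      rw [Tn_apply, map_sum]
      refine Finset.sum_congr rfl fun x _ => ?_
      rw [← mul_ap]
      have e : a * ((x : G) * nn S b) = ((x : G) * nn S b) *
          ((nn S b)⁻¹ * ((x : G)⁻¹ * a * (x : G)) * nn S b) := by group
      rw [e, mul_ap, h.fix _ (NN_le S b (nn_NN S b _ (NN_conj S b _ x.2 _ ha)))]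
    have h2 : ρ x (Tn ρ (XX S b) (nn S b) w) = Tn ρ (XX S b) (nn S b) w := mul_Tn ρ _ _ hx w
    show ρ x (ρ a (Tn ρ (XX S b) (nn S b) w)) = Tn ρ (XX S b) (nn S b) w
    rw [h1, h2]
  tor := by
    intro t ht
    have h1 : (nn S b)⁻¹ * t * nn S b ∈ S.T := by
      rw [nn_inv]; exact nH S b t ht
    obtain ⟨c, hc⟩ := h.tor _ h1
    refine ⟨c, ?_⟩
    have h2 := norm_Tn ρ (XX S b) (nn S b) ((r1 S b).HX t ht) w
    show ρ t (Tn ρ (XX S b) (nn S b) w) = c • Tn ρ (XX S b) (nn S b) w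
    rw [h2, hc, map_smul]

/-! ### existence -/

variable (S) in
theorem isPGroup_XZ (k : ℤ) : IsPGroup 2 (S.XZ k) := by
  rintro ⟨x, hx⟩
  refine ⟨2, Subtype.ext ?_⟩
  show x ^ (2 ^ 2) = 1
  obtain ⟨a, h | h⟩ := Int.even_or_odd' k
  · rw [h] at hx
    obtain ⟨p, u, rfl⟩ := (S.mem_XZ_even a x).1 hx
    have e : S.e (a : ZMod 8) p u ^ (2 ^ 2) = (S.e (a : ZMod 8) p u * S.e (a : ZMod 8) p u) *
        (S.e (a : ZMod 8) p u * S.e (a : ZMod 8) p u) := by
      rw [← pow_two, ← pow_two, ← pow_mul]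
      norm_num
    rw [e, Arc.e_sq, S.e_mul, map_zero, mul_zero, add_zero, add_zero, Arc.char2 S, S.e_zero]
  · rw [h] at hx
    obtain ⟨t, rfl⟩ := (S.mem_XZ_odd a x).1 hx
    have e : S.o (a : ZMod 8) t ^ (2 ^ 2) = (S.o (a : ZMod 8) t * S.o (a : ZMod 8) t) *
        (S.o (a : ZMod 8) t * S.o (a : ZMod 8) t) := by
      rw [← pow_two, ← pow_two, ← pow_mul]
      norm_num
    rw [e, S.o_add, Arc.char2 S, S.o_zero, one_mul]

variable (S) in
theorem isPGroup_P : IsPGroup 2 (P S) :=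
  Arc.isPGroup_J S.zsys8 (isPGroup_XZ S) 8 1 8 (by norm_num) (by norm_num)

variable (S) in
theorem isPGroup_Q : IsPGroup 2 (Q S) :=
  Arc.isPGroup_J S.zsys8 (isPGroup_XZ S) 8 9 16 (by norm_num) (by norm_num)

theorem card_XX [CharP k 2] (b : Bool) : (Nat.card (XX S b) : k) = 0 := by
  have h1 : IsPGroup 2 (XX S b) := by
    cases b
    · exact isPGroup_XZ S 8
    · exact isPGroup_XZ S 1
  obtain ⟨n, hn⟩ := IsPGroup.iff_card.1 h1
  have h2 : n ≠ 0 := by
    rintro rfl
    have h3 : XX S b = ⊥ := Subgroup.card_eq_one.1 (by rw [hn, pow_zero])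
    cases b
    · exact S.zsys8.ne_bot 8 h3
    · exact S.zsys8.ne_bot 1 h3
  rw [hn, Nat.cast_pow, show ((2 : ℕ) : k) = 0 from CharP.cast_eq_zero k 2, zero_pow h2]

theorem W0.sq [CharP k 2] (b : Bool) {w : V} (h : W0 S ρ w) :
    ∃ s : k, TW.TT S ρ b (TW.TT S ρ b w) = s • TW.TT S ρ b w :=
  (r1 S b).Tn_sq (h.X b) h.tor (card_XX b)

theorem W0.braid (b : Bool) {w : V} (h : W0 S ρ w) :
    ∃ c : k, alt (TW.TT S ρ) b 8 w = c • alt (TW.TT S ρ) (!b) 8 w := by
  obtain ⟨c, hc⟩ := h.tor _ (gg_mem S b)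
  refine ⟨c, ?_⟩
  have harc : ∀ b, arc S b 8 = J S.XZ 1 8 := by
    intro b
    cases b
    · show J S.XZ (9 - (8 : ℕ)) 8 = _
      norm_num
    · rfl
  rw [word S ρ 8 b le_rfl, word S ρ 8 (!b) le_rfl, harc, harc]
  have e : gg S b 8 = gg S (!b) 8 * ((gg S (!b) 8)⁻¹ * gg S b 8) := by group
  conv_lhs => rw [e]
  rw [Tn_mul_right, hc, map_smul]

theorem exists_W0 [IsAlgClosed k] [CharP k 2] [FiniteDimensional k V] [Nontrivial V] :
    ∃ w : V, w ≠ 0 ∧ W0 S ρ w := by
  obtain ⟨v, hv⟩ := exists_ne (0 : V)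
  obtain ⟨w, -, hw, hfix⟩ := H45.Uni.exists_fix (p := 2) (isPGroup_P S) (ρ.comp (P S).subtype) hv
  let E : Submodule k V :=
    { carrier := {v | ∀ u ∈ P S, ρ u v = v}
      add_mem' := fun {a b} ha hb u hu => by rw [map_add, ha u hu, hb u hu]
      zero_mem' := fun u _ => map_zero _
      smul_mem' := fun c a ha u hu => by rw [map_smul, ha u hu] }
  have hE : E ≠ ⊥ := by
    intro h
    have h1 : w ∈ E := fun u hu => hfix ⟨u, hu⟩
    rw [h, Submodule.mem_bot] at h1
    exact hw h1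
  obtain ⟨v, hv1, hv0, hv2⟩ := exists_eig ρ S.T (T_comm S) E hE (by
    intro t ht v hv u hu
    have h1 : t⁻¹ * u * t ∈ P S := by
      have := S.T_conj_J (inv_mem ht) hu
      rwa [inv_inv] at this
    have e : u * t = t * (t⁻¹ * u * t) := by group
    rw [← mul_ap, e, mul_ap, hv _ h1])
  exact ⟨v, hv0, hv1, hv2⟩

end rep

/-! ### weight vectors -/

section wt

variable [Finite G] {k V : Type*} [Field k] [AddCommGroup V] [Module k V]

/-- weight vectors -/
structure Wt (S : Full σ G) (ρ : G →* Module.End k V) (w : V) : Prop extends W0 S ρ w where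
  mu : ∀ b, ∃ μ : k, TT S ρ b w = μ • w

variable {S} {ρ : G →* Module.End k V}

/-- **(O2)** weight vectors exist -/
theorem exists_wt [IsAlgClosed k] [CharP k 2] [FiniteDimensional k V] [Nontrivial V] : ∃ w : V, w ≠ 0 ∧ Wt S ρ w := by
  obtain ⟨v, hv0, hv⟩ := exists_W0 (S := S) (ρ := ρ)
  obtain ⟨w, hw0, hw, hw'⟩ := exists_simul (TT S ρ) (W0 S ρ) (fun b v hv => hv.TT b) (fun b v hv => hv.sq b) 8
    (by norm_num) (fun b v hv => hv.braid b) hv hv0
  exact ⟨w, hw0, ⟨hw, hw'⟩⟩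

/-- the span of `G w` is the span of `Q w` -/
theorem Wt.gen {w : V} (h : Wt S ρ w) (g : G) : ρ g w ∈ Submodule.span k {z | ∃ u ∈ Q S, z = ρ u w} := by
  refine span_neg (opp S) ρ (fun b x hx y hy => ?_) g
  obtain ⟨μ, hμ⟩ := h.mu b
  exact (r1 S b).xy_mem (h.X b) h.tor hμ hx hy

/-- `μ ≠ 0` only if the rank one torus fixes `w` -/
theorem Wt.mu_zero [CharP k 2] {w : V} (h : Wt S ρ w) (hw : w ≠ 0) {b : Bool} {μ : k} (hμ : TT S ρ b w = μ • w)
    (h0 : μ ≠ 0) (c : Fˣ) : ρ (hc S b c) w = w := by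
  obtain ⟨a, ha⟩ := h.tor _ (DD_le S b (hc_mem S b c))
  have h1 := (r1 S b).mu_zero hw hμ h0 (hc_mem S b c) ha
  have h2 : (a - 1) ^ 2 = 0 := by
    have h3 : (2 : k) = 0 := by have := CharP.cast_eq_zero k 2; exact_mod_cast this
    linear_combination h1 + (1 - a) * h3
  have h3 := sub_eq_zero.1 ((pow_eq_zero_iff two_ne_zero).1 h2)
  rw [ha, h3, one_smul]

theorem Wt.mu_one [CharP k 2] {w : V} (h : Wt S ρ w) (hw : w ≠ 0) {b : Bool} {μ : k} (hμ : TT S ρ b w = μ • w)
    (hD : ∀ c : Fˣ, ρ (hc S b c) w = w) : μ = 0 ∨ μ = -1 := by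
  refine (r1 S b).mu_one hw (h.X b) h.tor ?_ (card_XX b) hμ
  rintro _ ⟨c, rfl⟩
  exact hD c

/-- `μ` from a `Q`-invariant functional -/
theorem Wt.mu_f [CharP k 2] {w : V} (h : Wt S ρ w) (hw : w ≠ 0) {b : Bool} {μ : k} (hμ : TT S ρ b w = μ • w)
    (hD : ∀ c : Fˣ, ρ (hc S b c) w = w) (f : V →ₗ[k] k) (hf : ∀ y ∈ YY S b, f (ρ y w) = f w) :
    μ * f w = f (ρ (nn S b) w) - f w := by
  refine (r1 S b).mu_f hw (h.X b) h.tor ?_ (card_XX b) hμ f hf
  rintro _ ⟨c, rfl⟩
  exact hD c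

end wt

end Cfsg.Agent.H421.TW
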