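import Cfsg.Agent.H421.TW.Full
import Cfsg.Agent.H564.TW.Def

/-!
# The rank one data `TSys` of a group of type `²F₄` and (O2) (helper421)

`tsys S : H564.TW.TSys Bool F G` for `S : Full σ G`, `F` finite; `wt S : (tsys S).Wt k W` for `k` algebraically closed of
characteristic two.
-/

set_option autoImplicit false
set_option linter.unusedSectionVars false

namespace Cfsg.Agent.H421.TW

open Cfsg.Agent.SplitTwo Cfsg.Agent.SplitTwo.ZS Cfsg.Agent.TitsThree.RankTwoZ Cfsg.Agent.KFacts.TwF4 Finset
open Cfsg.Agent.KFacts.TwF4.Full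

universe u

variable {F : Type*} [Field F] {σ : F →+* F} {G : Type u} [Group G] (S : Full σ G)

theorem J_16 (a b : ℤ) : J S.XZ (a - 16) (b - 16) = J S.XZ a b := by
  apply le_antisymm
  · refine J_le fun k h1 h2 => ?_
    have h3 := XZ_16 S (k + 16)
    rw [add_sub_cancel_right] at h3
    rw [h3]
    exact X_le_J (by omega) (by omega)
  · refine J_le fun k h1 h2 => ?_
    rw [← XZ_16 S k]
    exact X_le_J (by omega) (by omega)

/-- the torus is generated by the two rank one tori -/
theorem T_gen [Finite F] : S.T ≤ Subgroup.closure {g | ∃ b c, g = hc S b c} := by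
  intro t ht
  obtain ⟨a, b, rfl⟩ := S.mem_T.1 ht
  -- `σ d / d = a / b`
  have hinj : Function.Injective (fun d : Fˣ => Units.map (σ : F →* F) d / d) := by
    intro x y h
    have h1 : Units.map (σ : F →* F) (x / y) = x / y := by
      rw [map_div]
      have h2 : Units.map (σ : F →* F) x / x = Units.map (σ : F →* F) y / y := h
      rw [div_eq_div_iff_mul_eq_mul] at h2 ⊢
      rw [h2]
      exact mul_comm _ _
    have h2 := Arc.s2 S h1
    exact div_eq_one.1 h2
  obtain ⟨d, hd⟩ := (Finite.injective_iff_surjective.1 hinj) (a / b)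
  have hd' : Units.map (σ : F →* F) d / d = a / b := hd
  have e : S.h a b = hc S true (b / d) * hc S false d := by
    show S.h a b = S.h (b / d) (b / d) * S.h (Units.map (σ : F →* F) d) d
    rw [S.h_mul, div_mul_cancel]
    congr 1
    rw [div_mul_eq_mul_div, mul_div_assoc, hd', mul_div_cancel]
  rw [e]
  exact mul_mem (Subgroup.subset_closure ⟨_, _, rfl⟩) (Subgroup.subset_closure ⟨_, _, rfl⟩)

theorem nMM (b : Bool) : ∀ z ∈ MM S b, nn S b * z * (nn S b)⁻¹ ∈ MM S b := by
  intro z hz
  cases b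
  · have h1 := S.n2_refl.mem_J (a := 9) (b := 15) (a' := 9 - 16) (b' := 15 - 16) hz (by norm_num) (by norm_num)
    rw [J_16] at h1
    exact h1
  · have h1 := S.n1_refl.mem_J (a := 10) (b := 16) (a' := 10 - 16) (b' := 16 - 16) hz (by norm_num) (by norm_num)
    rw [J_16] at h1
    exact h1

/-- the rank one data -/
def tsys [Finite F] : H564.TW.TSys Bool F G where
  U := P S
  Um := Q S
  H := S.T
  X := XX S
  Y := YY S
  V := NN S
  Z := MM S
  n := nn S
  hh := hc S
  gen := by
    rw [eq_top_iff, ← (opp S).gen]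
    refine sup_le (fun u hu => Subgroup.subset_closure (Or.inl hu)) (iSup_le fun b x hx => ?_)
    have h1 := XY S b x hx
    have h2 : x = nn S b * (nn S b * x * nn S b) * nn S b := by
      have : nn S b * (nn S b * x * nn S b) * nn S b = (nn S b * nn S b) * x * (nn S b * nn S b) := by group
      rw [this, nn_sq, one_mul, mul_one]
    rw [h2]
    have hn : nn S b ∈ Subgroup.closure {g | g ∈ Q S ∨ g ∈ S.T ∨ ∃ j, g = nn S j} :=
      Subgroup.subset_closure (Or.inr (Or.inr ⟨b, rfl⟩))
    exact mul_mem (mul_mem hn (Subgroup.subset_closure (Or.inl ((opp S).YQ b h1)))) hn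
  H_comm := T_comm S
  hh_mem := fun b c => DD_le S b (hc_mem S b c)
  hh_mul := hc_mul S
  H_gen := T_gen S
  n_hh := by
    intro b c
    rw [nn_inv, nD S b _ (hc_mem S b c)]
    have h1 := hc_mul S b c c⁻¹
    have h2 : hc S b 1 = 1 := by
      have := hc_mul S b 1 1
      rw [mul_one] at this
      exact mul_eq_left.1 this.symm
    rw [mul_inv_cancel, h2] at h1
    exact inv_eq_of_mul_eq_one_right h1.symm
  n_sq := by
    intro b
    rw [nn_sq]
    exact one_mem _
  X_ne := by
    intro b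
    cases b
    · exact S.zsys8.ne_bot 8
    · exact S.zsys8.ne_bot 1
  X_le := XX_le S
  Y_le := (opp S).YQ
  Z_le := (opp S).MQ
  U_eq := P_dec S
  Um_eq := (opp S).dec
  V_le := NN_le S
  X_V := NN_conj S
  n_V := nn_NN S
  n_Z := nMM S
  n_Y := by
    intro b y hy
    rw [nn_inv]
    exact YX S b y hy
  H_X := fun b => (r1 S b).HX
  H_Um := fun t ht u hu => S.T_conj_J ht hu
  rank := by
    intro b u hu hu1
    obtain ⟨y, hy, t, ⟨c, rfl⟩, x', hx', e⟩ := rk S b u hu hu1
    exact ⟨y, hy, c, x', hx', e⟩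

theorem Tj_eq [Finite F] [Finite G] {k V : Type*} [Field k] [AddCommGroup V] [Module k V] (ρ : G →* Module.End k V)
    (b : Bool) (v : V) : (tsys S).Tj ρ b v = TT S ρ b v := by
  classical
  let _ := Fintype.ofFinite (XX S b)
  show _ = Tn ρ (XX S b) (nn S b) v
  rw [Tn_apply]
  unfold H564.TW.TSys.Tj
  refine Finset.sum_bij' (fun x hx => (⟨x, (Set.Finite.mem_toFinset _).1 hx⟩ : XX S b)) (fun x _ => (x : G))
    (fun _ _ => Finset.mem_univ _) (fun x _ => (Set.Finite.mem_toFinset _).2 x.2) (fun _ _ => rfl) (fun _ _ => rfl)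
    (fun _ _ => rfl)

/-- **(O2)** -/
theorem wt [Finite F] [Finite G] {k : Type*} [Field k] [IsAlgClosed k] [CharP k 2] {W : Type*} [AddCommGroup W]
    [Module k W] : (tsys S).Wt k W := by
  intro ρ _ _
  obtain ⟨w, hw0, hw⟩ := exists_wt (S := S) (ρ := ρ)
  refine ⟨w, hw0, hw.fix, hw.tor, fun b => ?_⟩
  obtain ⟨μ, hμ⟩ := hw.mu b
  exact ⟨μ, by rw [Tj_eq]; exact hμ⟩

end Cfsg.Agent.H421.TW
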